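import Mathlib
import Cfsg.Agent.Lib.helper17.SLP.Defs

/-!
# Project SL3 (designer helper17): S2287 (10u).  `SL₃(F)` (`F` a finite field) has a presentation with
4 generators and at most 14 relations (the statement excludes `|F| = 9`; the proof does not need that).

Generators of `SL₃(F)` (`ζ` a generator of `Fˣ`, indices `0,1,2`):
`u = x₀₁(1) = 1 + E₀₁`, `d = diag(ζ, 1, ζ⁻¹)`, `w = E₀₁ - E₁₀ + E₂₂`, `c` = the permutation matrix `e_j ↦ e_(j+1)`.
`d` acts on `x₀₁(t)` through `ζ` (NOT `ζ²`), so the A-part of project SLP is used with `lam = ζ`, `l = 1`.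
The six root maps are conjugates of `x = x₀₁`: `x₁₀ t = w x(-t) w⁻¹`, `x₁₂ = c x₀₁ c⁻¹`, `x₂₀ = c⁻¹ x₀₁ c`,
`x₂₁ = c x₁₀ c⁻¹`, `x₀₂ = c⁻¹ x₁₀ c`; torus `d₁ = d`, `d₂ = c d c⁻¹`, `d₃ = c⁻¹ d c`.

This file: words (as functions of group elements, reusing `cj pw cm relK1` of `SLP.Defs`), word lists in
`FreeGroup (Fin 4)`, the four matrices, the hypothesis bundles `Hyp`, `RD`.
-/

set_option autoImplicit false

namespace Cfsg.Agent.Lib.helper17.SL3

open Cfsg.Agent.Lib.helper17.SLP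
open Polynomial

universe u v

section Words

variable {G : Type u} [Group G]

/-- `x₀₂(1)` as a word: `c⁻¹ (w u⁻¹ w⁻¹) c`. -/
def r02 (u w c : G) : G := c⁻¹ * (w * u⁻¹ * w⁻¹) * c

/-- `x₂₁(1)` as a word: `c (w u⁻¹ w⁻¹) c⁻¹`. -/
def r21 (u w c : G) : G := c * (w * u⁻¹ * w⁻¹) * c⁻¹

/-- Weyl relation `(w c⁻¹)² = 1`. -/
def relE2 (w c : G) : G := (w * c⁻¹) ^ 2

/-- `d` commutes with `c d c⁻¹`. -/
def relT1 (d c : G) : G := cm d (c * d * c⁻¹)

/-- `(d c)³ = 1`, i.e. `d · c d c⁻¹ · c² d c⁻² = 1` once `c³ = 1`. -/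
def relT2 (d c : G) : G := (d * c) ^ 3

/-- `w d w⁻¹ = (c⁻¹ d c)⁻¹`. -/
def relTw (d w c : G) : G := w * d * w⁻¹ * (c⁻¹ * d * c)

/-- `d² · c d c⁻¹ = diag(ζ, ζ, ζ⁻²)` commutes with `u`. -/
def relT3 (u d c : G) : G := cm (d ^ 2 * (c * d * c⁻¹)) u

/-- `[x₀₁(1), x₁₂(1)] = x₀₂(1)`. -/
def relR1 (u w c : G) : G := cm u (c * u * c⁻¹) * (r02 u w c)⁻¹

/-- `[x₀₂(1), x₂₁(1)] = x₀₁(1)`. -/
def relRu (u w c : G) : G := cm (r02 u w c) (r21 u w c) * u⁻¹

/-- `x₀₁(1)` commutes with `d⁻¹ x₀₂(1) d = x₀₂(ζ⁻²)`. -/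
def relR2 (u d w c : G) : G := cm u (d⁻¹ * r02 u w c * d)

/-- `x₀₁(1)` commutes with `d⁻¹ x₂₁(1) d = x₂₁(ζ)`. -/
def relR3 (u d w c : G) : G := cm u (d⁻¹ * r21 u w c * d)

/-- only for `|F| = 4`: `[x₀₁(1), x₁₂(ζ)] = x₀₂(ζ)` (`x(ζ) = d u d⁻¹`). -/
def relRx (u d w c : G) : G :=
  cm u (c * (d * u * d⁻¹) * c⁻¹) * (c⁻¹ * (w * (d * u * d⁻¹)⁻¹ * w⁻¹) * c)⁻¹

variable {H : Type v} [Group H]

theorem map_r02 (φ : G →* H) (u w c : G) : φ (r02 u w c) = r02 (φ u) (φ w) (φ c) := by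
  simp only [r02, map_mul, map_inv]

theorem map_r21 (φ : G →* H) (u w c : G) : φ (r21 u w c) = r21 (φ u) (φ w) (φ c) := by
  simp only [r21, map_mul, map_inv]

theorem map_relE2 (φ : G →* H) (w c : G) : φ (relE2 w c) = relE2 (φ w) (φ c) := by
  simp only [relE2, map_mul, map_inv, map_pow]

theorem map_relT1 (φ : G →* H) (d c : G) : φ (relT1 d c) = relT1 (φ d) (φ c) := by
  simp only [relT1, map_cm, map_mul, map_inv]

theorem map_relT2 (φ : G →* H) (d c : G) : φ (relT2 d c) = relT2 (φ d) (φ c) := by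
  simp only [relT2, map_mul, map_pow]

theorem map_relTw (φ : G →* H) (d w c : G) : φ (relTw d w c) = relTw (φ d) (φ w) (φ c) := by
  simp only [relTw, map_mul, map_inv]

theorem map_relT3 (φ : G →* H) (u d c : G) : φ (relT3 u d c) = relT3 (φ u) (φ d) (φ c) := by
  simp only [relT3, map_cm, map_mul, map_inv, map_pow]

theorem map_relR1 (φ : G →* H) (u w c : G) : φ (relR1 u w c) = relR1 (φ u) (φ w) (φ c) := by
  simp only [relR1, map_cm, map_mul, map_inv, map_r02]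

theorem map_relRu (φ : G →* H) (u w c : G) : φ (relRu u w c) = relRu (φ u) (φ w) (φ c) := by
  simp only [relRu, map_cm, map_mul, map_inv, map_r02, map_r21]

theorem map_relR2 (φ : G →* H) (u d w c : G) :
    φ (relR2 u d w c) = relR2 (φ u) (φ d) (φ w) (φ c) := by
  simp only [relR2, map_cm, map_mul, map_inv, map_r02]

theorem map_relR3 (φ : G →* H) (u d w c : G) :
    φ (relR3 u d w c) = relR3 (φ u) (φ d) (φ w) (φ c) := by
  simp only [relR3, map_cm, map_mul, map_inv, map_r21]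

theorem map_relRx (φ : G →* H) (u d w c : G) :
    φ (relRx u d w c) = relRx (φ u) (φ d) (φ w) (φ c) := by
  simp only [relRx, map_cm, map_mul, map_inv]

end Words

section Free

/-- the four generators of `FreeGroup (Fin 4)`. -/
abbrev qU : FreeGroup (Fin 4) := FreeGroup.of 0
abbrev qD : FreeGroup (Fin 4) := FreeGroup.of 1
abbrev qW : FreeGroup (Fin 4) := FreeGroup.of 2
abbrev qC : FreeGroup (Fin 4) := FreeGroup.of 3

variable {G : Type u} [Group G]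

/-- evaluation of a word of `FreeGroup (Fin 4)` at `u d w c`. -/
def ev4 (u d w c : G) : FreeGroup (Fin 4) →* G := FreeGroup.lift ![u, d, w, c]

@[simp] theorem ev4_qU (u d w c : G) : ev4 u d w c qU = u := by simp [ev4, qU]
@[simp] theorem ev4_qD (u d w c : G) : ev4 u d w c qD = d := by simp [ev4, qD]
@[simp] theorem ev4_qW (u d w c : G) : ev4 u d w c qW = w := by simp [ev4, qW]
@[simp] theorem ev4_qC (u d w c : G) : ev4 u d w c qC = c := by simp [ev4, qC]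

/-- A-part, `|F| < p³` (`m = minpoly ζ`, of degree `≤ 2`); the commutator `[u, d u d⁻¹]` is NOT needed:
it follows from `relRu relR2 relR3`. -/
def wordsA2 (p : ℕ) (m : (ZMod p)[X]) : List (FreeGroup (Fin 4)) :=
  [qU ^ p, pw p qD qU 1 m]

/-- A-part, general (`ζ^k = ζ + 1`, `m = minpoly ζ`). -/
def wordsA3 (p : ℕ) (k : ℤ) (m : (ZMod p)[X]) : List (FreeGroup (Fin 4)) :=
  [qU ^ p, cj qD qU k * (cj qD qU 1 * qU)⁻¹, pw p qD qU 1 m]

/-- the 11 structural relators. -/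
def wordsS : List (FreeGroup (Fin 4)) :=
  [relK1 qU qW, qC ^ 3, relE2 qW qC, relT1 qD qC, relT2 qD qC, relTw qD qW qC, relT3 qU qD qC,
    relR1 qU qW qC, relRu qU qW qC, relR2 qU qD qW qC, relR3 qU qD qW qC]

/-- the extra relator for `|F| = 4`. -/
def wordX : FreeGroup (Fin 4) := relRx qU qD qW qC

end Free

section Roots

variable {F : Type u} {G : Type v} [Field F] [Group G]

/-- `x₁₀ t = w x(-t) w⁻¹`. -/
def x10 (x : F → G) (w : G) (t : F) : G := w * x (-t) * w⁻¹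

/-- `x₁₂ t = c x(t) c⁻¹`. -/
def x12 (x : F → G) (c : G) (t : F) : G := c * x t * c⁻¹

/-- `x₂₀ t = c⁻¹ x(t) c`. -/
def x20 (x : F → G) (c : G) (t : F) : G := c⁻¹ * x t * c

/-- `x₂₁ t = c x₁₀(t) c⁻¹`. -/
def x21 (x : F → G) (w c : G) (t : F) : G := c * x10 x w t * c⁻¹

/-- `x₀₂ t = c⁻¹ x₁₀(t) c`. -/
def x02 (x : F → G) (w c : G) (t : F) : G := c⁻¹ * x10 x w t * c

/-- `d₂ = c d c⁻¹ = diag(ζ⁻¹, ζ, 1)`. -/
def d2 (d c : G) : G := c * d * c⁻¹

/-- `d₃ = c⁻¹ d c = diag(1, ζ⁻¹, ζ)`. -/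
def d3 (d c : G) : G := c⁻¹ * d * c

/-- The hypotheses on `(x, d, w, c)` in an abstract group: the A-part has produced the additive map `x` on
which `d` acts through `ζ`; the remaining fields are the 11 structural relators (with `u = x 1`). -/
structure Hyp (ζ : Fˣ) (x : F → G) (d w c : G) : Prop where
  add : ∀ s t, x (s + t) = x s * x t
  dconj : ∀ t, d * x t * d⁻¹ = x ((ζ : F) * t)
  K1 : relK1 (x 1) w = 1
  c3 : c ^ 3 = 1
  E2 : relE2 w c = 1
  T1 : relT1 d c = 1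
  T2 : relT2 d c = 1
  Tw : relTw d w c = 1
  T3 : relT3 (x 1) d c = 1
  R1 : relR1 (x 1) w c = 1
  Ru : relRu (x 1) w c = 1
  R2 : relR2 (x 1) d w c = 1
  R3 : relR3 (x 1) d w c = 1

/-- The three all-parameter relations from which everything else is transported by `w` and `c`
(obtained by torus propagation from `Hyp.R2`, `Hyp.R3`, `Hyp.R1`; for `|F| = 4` also `relRx`). -/
structure Comm3 (x : F → G) (w c : G) : Prop where
  row : ∀ s t, Commute (x s) (x02 x w c t)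
  col : ∀ s t, Commute (x s) (x21 x w c t)
  cmm : ∀ s t, cm (x s) (x12 x c t) = x02 x w c (s * t)

end Roots


section Mat

variable {F : Type u} [Field F]

/-- `x₀₁(t) = 1 + t E₀₁`. -/
def xM3 (t : F) : Matrix.SpecialLinearGroup (Fin 3) F :=
  ⟨!![1, t, 0; 0, 1, 0; 0, 0, 1], by simp [Matrix.det_fin_three]⟩

/-- `d(s) = diag(s, 1, s⁻¹)`. -/
def dM3 (s : Fˣ) : Matrix.SpecialLinearGroup (Fin 3) F :=
  ⟨!![(s : F), 0, 0; 0, 1, 0; 0, 0, ((s⁻¹ : Fˣ) : F)], by simp [Matrix.det_fin_three]⟩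

/-- `w = E₀₁ - E₁₀ + E₂₂`. -/
def wM3 : Matrix.SpecialLinearGroup (Fin 3) F :=
  ⟨!![0, 1, 0; -1, 0, 0; 0, 0, 1], by simp [Matrix.det_fin_three]⟩

/-- `c e_j = e_(j+1)`. -/
def cM3 : Matrix.SpecialLinearGroup (Fin 3) F :=
  ⟨!![0, 0, 1; 1, 0, 0; 0, 1, 0], by simp [Matrix.det_fin_three]⟩

end Mat

end Cfsg.Agent.Lib.helper17.SL3
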