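import Mathlib
import Cfsg.Agent.Lib.helper17.SLP.Defs
import Cfsg.Agent.Lib.helper17.SL3.Defs

/-!
# Project SL3 (designer helper17), second definitions file: the interface structures between the blocks
(`Act`, `Tor`, `Stein`, `Wact`, `Comm3` for the parametrised root maps; `RD` for the subgroup-level root datum of the Bruhat count).
-/

set_option autoImplicit false

namespace Cfsg.Agent.Lib.helper17.SL3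

open Cfsg.Agent.Lib.helper17.SLP

universe u v

section Roots

variable {F : Type u} {G : Type v} [Field F] [Group G]

/-- `g` acts on the root map `X` through `ζ ^ e`. -/
def Act (ζ : Fˣ) (g : G) (X : F → G) (e : ℤ) : Prop :=
  ∀ t, g * X t * g⁻¹ = X (((ζ ^ e : Fˣ) : F) * t)

/-- The torus action table (`d₁ = d = diag(ζ,1,ζ⁻¹)`, `d₂ = diag(ζ⁻¹,ζ,1)`, `d₃ = diag(1,ζ⁻¹,ζ)`; the exponent of `ζ` on `x_ij` is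
`a_i - a_j`) and additivity of the five derived root maps. -/
structure Tor (ζ : Fˣ) (x : F → G) (d w c : G) : Prop where
  add10 : ∀ s t, x10 x w (s + t) = x10 x w s * x10 x w t
  add12 : ∀ s t, x12 x c (s + t) = x12 x c s * x12 x c t
  add20 : ∀ s t, x20 x c (s + t) = x20 x c s * x20 x c t
  add21 : ∀ s t, x21 x w c (s + t) = x21 x w c s * x21 x w c t
  add02 : ∀ s t, x02 x w c (s + t) = x02 x w c s * x02 x w c t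
  t01 : Act ζ d x 1 ∧ Act ζ (d2 d c) x (-2) ∧ Act ζ (d3 d c) x 1
  t10 : Act ζ d (x10 x w) (-1) ∧ Act ζ (d2 d c) (x10 x w) 2 ∧ Act ζ (d3 d c) (x10 x w) (-1)
  t12 : Act ζ d (x12 x c) 1 ∧ Act ζ (d2 d c) (x12 x c) 1 ∧ Act ζ (d3 d c) (x12 x c) (-2)
  t21 : Act ζ d (x21 x w c) (-1) ∧ Act ζ (d2 d c) (x21 x w c) (-1) ∧ Act ζ (d3 d c) (x21 x w c) 2
  t20 : Act ζ d (x20 x c) (-2) ∧ Act ζ (d2 d c) (x20 x c) 1 ∧ Act ζ (d3 d c) (x20 x c) 1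
  t02 : Act ζ d (x02 x w c) 2 ∧ Act ζ (d2 d c) (x02 x w c) (-1) ∧ Act ζ (d3 d c) (x02 x w c) (-1)

/-- The twelve Steinberg commutator relations for all parameters. -/
structure Stein (x : F → G) (w c : G) : Prop where
  c01_12 : ∀ s t, cm (x s) (x12 x c t) = x02 x w c (s * t)
  c12_20 : ∀ s t, cm (x12 x c s) (x20 x c t) = x10 x w (s * t)
  c20_01 : ∀ s t, cm (x20 x c s) (x t) = x21 x w c (s * t)
  c10_02 : ∀ s t, cm (x10 x w s) (x02 x w c t) = x12 x c (s * t)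
  c21_10 : ∀ s t, cm (x21 x w c s) (x10 x w t) = x20 x c (s * t)
  c02_21 : ∀ s t, cm (x02 x w c s) (x21 x w c t) = x (s * t)
  r01_02 : ∀ s t, Commute (x s) (x02 x w c t)
  r12_10 : ∀ s t, Commute (x12 x c s) (x10 x w t)
  r20_21 : ∀ s t, Commute (x20 x c s) (x21 x w c t)
  k01_21 : ∀ s t, Commute (x s) (x21 x w c t)
  k12_02 : ∀ s t, Commute (x12 x c s) (x02 x w c t)
  k20_10 : ∀ s t, Commute (x20 x c s) (x10 x w t)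

/-- The action of `n₁ = w` and `n₂ = c w c⁻¹` on the six root maps. -/
structure Wact (x : F → G) (w c : G) : Prop where
  w01 : ∀ t, w * x t * w⁻¹ = x10 x w (-t)
  w10 : ∀ t, w * x10 x w t * w⁻¹ = x (-t)
  w12 : ∀ t, w * x12 x c t * w⁻¹ = x02 x w c t
  w02 : ∀ t, w * x02 x w c t * w⁻¹ = x12 x c (-t)
  w20 : ∀ t, w * x20 x c t * w⁻¹ = x21 x w c (-t)
  w21 : ∀ t, w * x21 x w c t * w⁻¹ = x20 x c t
  n12 : ∀ t, (c * w * c⁻¹) * x12 x c t * (c * w * c⁻¹)⁻¹ = x21 x w c (-t)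
  n21 : ∀ t, (c * w * c⁻¹) * x21 x w c t * (c * w * c⁻¹)⁻¹ = x12 x c (-t)
  n20 : ∀ t, (c * w * c⁻¹) * x20 x c t * (c * w * c⁻¹)⁻¹ = x10 x w t
  n10 : ∀ t, (c * w * c⁻¹) * x10 x w t * (c * w * c⁻¹)⁻¹ = x20 x c (-t)
  n01 : ∀ t, (c * w * c⁻¹) * x t * (c * w * c⁻¹)⁻¹ = x02 x w c (-t)
  n02 : ∀ t, (c * w * c⁻¹) * x02 x w c t * (c * w * c⁻¹)⁻¹ = x t

/-- the torus `T = ⟨d₁, d₂⟩`. -/
def TT (d c : G) : Subgroup G := Subgroup.closure {d, d2 d c}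

/-- the root subgroup of a root map. -/
def RG (X : F → G) : Subgroup G := Subgroup.closure (Set.range X)

end Roots

section BN

variable {G : Type u} [Group G]

/-- Subgroup-level root datum of type `A₂` (only what the Bruhat count uses): torus `T`, positive root groups
`X01 X02 X12`, negative simple root groups `X10 X21`, Weyl elements `n1 n2`. -/
structure RD (q : ℕ) (T X01 X02 X12 X10 X21 : Subgroup G) (n1 n2 : G) : Prop where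
  finT : Finite T
  fin01 : Finite X01 ∧ Nat.card X01 ≤ q
  fin02 : Finite X02 ∧ Nat.card X02 ≤ q
  fin12 : Finite X12 ∧ Nat.card X12 ≤ q
  p1 : ∀ a ∈ X01, ∀ z ∈ X02, Commute a z
  p2 : ∀ b ∈ X12, ∀ z ∈ X02, Commute b z
  p3 : ∀ a ∈ X01, ∀ b ∈ X12, a * b * a⁻¹ * b⁻¹ ∈ X02
  t01 : ∀ τ ∈ T, ∀ g ∈ X01, τ * g * τ⁻¹ ∈ X01
  t02 : ∀ τ ∈ T, ∀ g ∈ X02, τ * g * τ⁻¹ ∈ X02
  t12 : ∀ τ ∈ T, ∀ g ∈ X12, τ * g * τ⁻¹ ∈ X12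
  t10 : ∀ τ ∈ T, ∀ g ∈ X10, τ * g * τ⁻¹ ∈ X10
  t21 : ∀ τ ∈ T, ∀ g ∈ X21, τ * g * τ⁻¹ ∈ X21
  m1 : ∀ g ∈ X10, ∀ b ∈ X12, Commute g b
  m2 : ∀ g ∈ X10, ∀ z ∈ X02, g * z * g⁻¹ * z⁻¹ ∈ X12
  m3 : ∀ g ∈ X21, ∀ a ∈ X01, Commute g a
  m4 : ∀ g ∈ X21, ∀ z ∈ X02, g * z * g⁻¹ * z⁻¹ ∈ X01
  n1T : ∀ τ ∈ T, n1 * τ * n1⁻¹ ∈ T
  n1a : ∀ g ∈ X01, n1 * g * n1⁻¹ ∈ X10
  n1b : ∀ g ∈ X02, n1 * g * n1⁻¹ ∈ X12
  n1c : ∀ g ∈ X12, n1 * g * n1⁻¹ ∈ X02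
  n1a' : ∀ g ∈ X10, n1⁻¹ * g * n1 ∈ X01
  n1b' : ∀ g ∈ X12, n1⁻¹ * g * n1 ∈ X02
  n1c' : ∀ g ∈ X02, n1⁻¹ * g * n1 ∈ X12
  n1sq : n1 ^ 2 ∈ T
  n2T : ∀ τ ∈ T, n2 * τ * n2⁻¹ ∈ T
  n2a : ∀ g ∈ X12, n2 * g * n2⁻¹ ∈ X21
  n2b : ∀ g ∈ X01, n2 * g * n2⁻¹ ∈ X02
  n2c : ∀ g ∈ X02, n2 * g * n2⁻¹ ∈ X01
  n2a' : ∀ g ∈ X21, n2⁻¹ * g * n2 ∈ X12
  n2b' : ∀ g ∈ X01, n2⁻¹ * g * n2 ∈ X02
  n2c' : ∀ g ∈ X02, n2⁻¹ * g * n2 ∈ X01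
  n2sq : n2 ^ 2 ∈ T
  r1 : ∀ g ∈ X10, g = 1 ∨ ∃ a ∈ X01, ∃ τ ∈ T, ∃ a' ∈ X01, g = a * τ * n1 * a'
  r2 : ∀ g ∈ X21, g = 1 ∨ ∃ b ∈ X12, ∃ τ ∈ T, ∃ b' ∈ X12, g = b * τ * n2 * b'
  braid : ∃ τ ∈ T, n2 * n1 * n2 = τ * (n1 * n2 * n1)
  gen : Subgroup.closure ((T : Set G) ∪ (X01 : Set G) ∪ (X12 : Set G) ∪ {n1, n2}) = ⊤

end BN

end Cfsg.Agent.Lib.helper17.SL3
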